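import Groth.Agent.SplitAlg.Basic
import Mathlib.LinearAlgebra.FreeModule.StrongRankCondition
import Mathlib.RingTheory.FiniteType

/-!
The staircase monomials are a basis of the universal splitting algebra.
-/

set_option autoImplicit false
universe u

open Polynomial

namespace Groth.Agent.SymStair

open Groth.Agent.SplitAlg

variable {R : Type u} [CommRing R] {n : ℕ}

abbrev Stair (n : ℕ) : Type := Π i : Fin n, Fin (n - (i : ℕ))

noncomputable def mono (n : ℕ) (P : R[X]) (d : Stair n) : SAlg n P :=
  ∏ i : Fin n, root n P i ^ ((d i : ℕ))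

noncomputable def M (n : ℕ) (P : R[X]) (i : ℕ) : Submodule R (SAlg n P) :=
  Submodule.span R (mono n P '' {d | ∀ j : Fin n, i ≤ (j : ℕ) → (d j : ℕ) = 0})

noncomputable def A (n : ℕ) (P : R[X]) (i : ℕ) : Subalgebra R (SAlg n P) :=
  Algebra.adjoin R (root n P '' {j | (j : ℕ) < i})

theorem A_le_M (P : R[X]) (hP : P.Monic) (hd : P.natDegree = n) :
    ∀ i ≤ n, ∀ x ∈ A n P i, x ∈ M n P i := by
  intro i
  induction i with
  | zero =>
    intro _ x hx
    have h0 : A n P 0 = ⊥ := by simp [A]
    rw [h0, Algebra.mem_bot] at hx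
    obtain ⟨r, rfl⟩ := hx
    rw [Algebra.algebraMap_eq_smul_one]
    refine Submodule.smul_mem _ _ (Submodule.subset_span ⟨fun j => ⟨0, by omega⟩, ?_, ?_⟩)
    · intro j _; rfl
    · simp [mono]
  | succ i ih =>
    intro hi x hx
    let Ai := A n P i
    let t : SAlg n P := root n P ⟨i, hi⟩
    -- the monic relation of `t` over `Ai`
    let e : {j : Fin n // (j : ℕ) < i} → Ai := fun j =>
      ⟨root n P j.1, Algebra.subset_adjoin ⟨j.1, j.2, rfl⟩⟩
    let F : Ai[X] := ∏ j, (X - C (e j))
    have hF : F.Monic := monic_prod_of_monic _ _ fun j _ => monic_X_sub_C _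
    let q : Ai[X] := P.map (algebraMap R Ai) /ₘ F
    let G : (SAlg n P)[X] := ∏ j : {j : Fin n // ¬ (j : ℕ) < i}, (X - C (root n P j.1))
    have hG : G.Monic := monic_prod_of_monic _ _ fun j _ => monic_X_sub_C _
    have hFmap : F.map (Ai.val : Ai →+* SAlg n P) = ∏ j : {j : Fin n // (j : ℕ) < i}, (X - C (root n P j.1)) := by
      simp [F, e, Polynomial.map_prod]
    have hq : q.map (Ai.val : Ai →+* SAlg n P) = G := by
      have h1 : (F.map (Ai.val : Ai →+* SAlg n P)) * G = P.map (algebraMap R (SAlg n P)) := by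
        rw [hFmap, ← prod_root P hP hd]
        exact Fintype.prod_subtype_mul_prod_subtype (fun j : Fin n => (j : ℕ) < i)
          (fun j => X - C (root n P j))
      rw [map_divByMonic _ hF, Polynomial.map_map,
        show ((Ai.val : Ai →+* SAlg n P)).comp (algebraMap R Ai) = algebraMap R (SAlg n P) from rfl, ← h1,
        mul_divByMonic_cancel_left _ (hF.map _)]
    -- `q` is monic of degree `≤ n - i` and kills `t`
    have hinj : Function.Injective (Ai.val : Ai →+* SAlg n P) := Subtype.val_injective
    have hqm : q.Monic := Polynomial.monic_of_injective hinj (hq ▸ hG)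
    have hqd : q.natDegree ≤ n - i := by
      rw [← natDegree_map_eq_of_injective hinj, hq]
      refine (natDegree_prod_le _ _).trans ((Finset.sum_le_sum fun j _ => natDegree_X_sub_C_le _).trans ?_)
      simp only [Finset.sum_const, smul_eq_mul, mul_one, Finset.card_univ]
      rw [Fintype.card_subtype_compl, Fintype.card_fin, Fintype.card_subtype,
        Fin.card_filter_val_lt, min_eq_right (by omega)]
    have hqt : q.eval₂ (Ai.val : Ai →+* SAlg n P) t = 0 := by
      rw [← eval_map, hq, eval_prod]
      exact Finset.prod_eq_zero (Finset.mem_univ ⟨⟨i, hi⟩, by simp⟩) (by simp [t])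
    -- every element is a polynomial in `t` over `Ai`
    have hxg : ∃ g : Ai[X], g.eval₂ (Ai.val : Ai →+* SAlg n P) t = x := by
      have hle : A n P (i + 1) ≤ ((Polynomial.aeval (R := Ai) t).restrictScalars R).range := by
        refine Algebra.adjoin_le ?_
        rintro _ ⟨j, hj, rfl⟩
        rcases lt_or_eq_of_le (Nat.lt_succ_iff.mp hj) with h | h
        · exact ⟨C (e ⟨j, h⟩), (Polynomial.aeval_C (R := Ai) t _).trans rfl⟩
        · exact ⟨X, (Polynomial.aeval_X (R := Ai) t).trans (congrArg (root n P) (Fin.ext h.symm))⟩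
      obtain ⟨g, hg⟩ := hle hx
      exact ⟨g, hg⟩
    obtain ⟨g, rfl⟩ := hxg
    rw [← modByMonic_add_div g q, eval₂_add, eval₂_mul, hqt, zero_mul, add_zero, eval₂_eq_sum, sum_def]
    refine Submodule.sum_mem _ fun k hk => ?_
    have hkn : k < n - i := by
      rcases subsingleton_or_nontrivial Ai with h | h
      · exact absurd (Subsingleton.elim _ _) (mem_support_iff.mp hk)
      have h1 : ((g %ₘ q).degree) < q.degree := degree_modByMonic_lt g hqm
      have h2 : (k : WithBot ℕ) ≤ (g %ₘ q).degree := le_degree_of_ne_zero (mem_support_iff.mp hk)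
      have h3 : q.degree = (q.natDegree : WithBot ℕ) := degree_eq_natDegree hqm.ne_zero
      have := lt_of_le_of_lt h2 (h3 ▸ h1)
      have : k < q.natDegree := by exact_mod_cast this
      omega
    have hc : (Ai.val : Ai →+* SAlg n P) ((g %ₘ q).coeff k) ∈ M n P i := ih (by omega) _ ((g %ₘ q).coeff k).2
    revert hc
    generalize (Ai.val : Ai →+* SAlg n P) ((g %ₘ q).coeff k) = c
    intro hc
    have hmap : (M n P i).map (LinearMap.mulRight R (t ^ k)) ≤ M n P (i + 1) := by
      rw [M, Submodule.map_span, Submodule.span_le]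
      rintro _ ⟨_, ⟨d, hd0, rfl⟩, rfl⟩
      refine Submodule.subset_span ⟨Function.update d ⟨i, hi⟩ ⟨k, hkn⟩, ?_, ?_⟩
      · intro j hj
        rw [Function.update_of_ne (by intro h; rw [h] at hj; simp at hj)]
        exact hd0 j (by omega)
      · simp only [mono, LinearMap.mulRight_apply, t]
        rw [← Finset.mul_prod_erase _ _ (Finset.mem_univ (⟨i, hi⟩ : Fin n)),
          ← Finset.mul_prod_erase _ _ (Finset.mem_univ (⟨i, hi⟩ : Fin n)),
          Function.update_self, hd0 ⟨i, hi⟩ le_rfl, pow_zero, one_mul, mul_comm]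
        congr 1
        refine Finset.prod_congr rfl fun j hj => ?_
        rw [Function.update_of_ne (Finset.mem_erase.mp hj).1]
    exact hmap ⟨c, hc, rfl⟩

theorem span_mono (P : R[X]) (hP : P.Monic) (hd : P.natDegree = n) :
    Submodule.span R (Set.range (mono n P)) = ⊤ := by
  rw [eq_top_iff]
  intro x _
  have hx : x ∈ A n P n := by
    obtain ⟨f, rfl⟩ := Ideal.Quotient.mk_surjective x
    clear * -
    induction f using MvPolynomial.induction_on with
    | C a => exact Subalgebra.algebraMap_mem _ a
    | add a b ha hb => rw [map_add]; exact add_mem ha hb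
    | mul_X a j ha =>
      rw [map_mul]
      exact mul_mem ha (Algebra.subset_adjoin ⟨j, j.2, rfl⟩)
  exact Submodule.span_mono (Set.image_subset_range _ _) (A_le_M P hP hd n le_rfl x hx)

theorem card_stair (n : ℕ) : Fintype.card (Stair n) = n.factorial := by
  rw [Fintype.card_pi]
  simp only [Fintype.card_fin]
  induction n with
  | zero => simp
  | succ n ih =>
    rw [Fin.prod_univ_succ, Nat.factorial_succ, ← ih]
    simp

theorem mono_bijective (P : R[X]) (hP : P.Monic) (hd : P.natDegree = n) :
    Function.Bijective (Fintype.linearCombination R (mono n P)) := by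
  have hs : Function.Surjective (Fintype.linearCombination R (mono n P)) := by
    rw [← LinearMap.range_eq_top, Fintype.range_linearCombination, span_mono P hP hd]
  refine ⟨?_, hs⟩
  obtain ⟨b⟩ := exists_basis n P hP hd
  let σ : Stair n ≃ Fin n.factorial := Fintype.equivFinOfCardEq (card_stair n)
  let e : SAlg n P ≃ₗ[R] (Stair n → R) := (b.reindex σ.symm).equivFun
  have := OrzechProperty.injective_of_surjective_endomorphism
    (e.toLinearMap.comp (Fintype.linearCombination R (mono n P))) (e.surjective.comp hs)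
  exact fun x y h => this (congrArg e h)

/-- The monic polynomial with signed coefficients `a`. -/
noncomputable def poly (a : Fin n → R) : R[X] :=
  X ^ n + ∑ i : Fin n, C ((-1) ^ ((i : ℕ) + 1) * a i) * X ^ (n - ((i : ℕ) + 1))

theorem degree_sum_lt (a : Fin n → R) :
    (∑ i : Fin n, C ((-1) ^ ((i : ℕ) + 1) * a i) * X ^ (n - ((i : ℕ) + 1))).degree < (n : WithBot ℕ) := by
  refine lt_of_le_of_lt (degree_sum_le _ _) ((Finset.sup_lt_iff (WithBot.bot_lt_coe n)).mpr fun i _ => ?_)
  refine lt_of_le_of_lt (degree_C_mul_X_pow_le _ _) ?_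
  exact WithBot.coe_lt_coe.mpr (by omega : n - ((i : ℕ) + 1) < n)

theorem poly_monic (a : Fin n → R) : (poly a).Monic := monic_X_pow_add (degree_sum_lt a)

theorem poly_natDegree [Nontrivial R] (a : Fin n → R) : (poly a).natDegree = n := by
  rw [poly, natDegree_eq_of_degree_eq_some]
  rw [degree_add_eq_left_of_degree_lt (by rw [degree_X_pow]; exact degree_sum_lt a), degree_X_pow]

theorem rel_poly (a : Fin n → R) : rel n (poly a) =
    Ideal.span (Set.range fun i : Fin n => MvPolynomial.esymm (Fin n) R ((i : ℕ) + 1) - MvPolynomial.C (a i)) := by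
  rw [rel]
  congr 2
  funext i
  congr 2
  rw [poly, coeff_add, coeff_X_pow, if_neg (by omega), zero_add, finsetSum_coeff, Finset.sum_eq_single i]
  · rw [coeff_C_mul_X_pow, if_pos rfl, ← mul_assoc, ← pow_add, ← two_mul, pow_mul, neg_one_sq, one_pow, one_mul]
  · intro j _ hj
    rw [coeff_C_mul_X_pow, if_neg]
    intro h
    exact hj (Fin.ext (by omega))
  · simp

/-- Polynomial version: the staircase monomials are a basis modulo `I`. -/
theorem exists_unique_coords (a : Fin n → R) :
    let I := Ideal.span (Set.range fun i : Fin n => MvPolynomial.esymm (Fin n) R ((i : ℕ) + 1) - MvPolynomial.C (a i))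
    (∀ x : MvPolynomial (Fin n) R, ∃ α : Stair n → R,
      x - (∑ d : Stair n, MvPolynomial.C (α d) * ∏ i : Fin n, MvPolynomial.X i ^ ((d i : ℕ))) ∈ I) ∧
    ∀ α : Stair n → R, (∑ d : Stair n, MvPolynomial.C (α d) * ∏ i : Fin n, MvPolynomial.X i ^ ((d i : ℕ))) ∈ I →
      α = 0 := by
  intro I
  rcases subsingleton_or_nontrivial R with h | h
  · exact ⟨fun x => ⟨0, by rw [Subsingleton.elim (x - _) (0 : MvPolynomial (Fin n) R)]; exact I.zero_mem⟩,
      fun α _ => Subsingleton.elim _ _⟩
  have hI : I = rel n (poly a) := (rel_poly a).symm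
  have hb := mono_bijective (poly a) (poly_monic a) (poly_natDegree a)
  have key : ∀ α : Stair n → R, Fintype.linearCombination R (mono n (poly a)) α =
      Ideal.Quotient.mk (rel n (poly a))
        (∑ d : Stair n, MvPolynomial.C (α d) * ∏ i : Fin n, MvPolynomial.X i ^ ((d i : ℕ))) := by
    intro α
    simp only [Fintype.linearCombination_apply, map_sum, map_mul, map_prod, map_pow, mono, root]
    refine Finset.sum_congr rfl fun d _ => ?_
    exact Algebra.smul_def (A := SAlg n (poly a)) _ _
  refine ⟨fun x => ?_, fun α hα => ?_⟩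
  · obtain ⟨α, hα⟩ := hb.2 (Ideal.Quotient.mk _ x)
    refine ⟨α, ?_⟩
    rw [hI, ← Ideal.Quotient.eq, ← hα, key]
  · apply hb.1
    rw [key, map_zero, Ideal.Quotient.eq_zero_iff_mem, ← hI]
    exact hα

end Groth.Agent.SymStair
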